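import Groth.Agent.ClosedRep.EssFreeAffine
import Groth.Agent.GenFree.Main

/-!
Generic essential freeness over an integral base.
-/

set_option autoImplicit false
set_option linter.style.haveILetI false
set_option backward.isDefEq.respectTransparency false

universe u

open CategoryTheory CategoryTheory.Limits AlgebraicGeometry
open TensorProduct

noncomputable section

namespace Groth.Agent.GenTransp

/-- An open piece with projective coordinate ring. -/
theorem exists_piece {k' B : Type u} [CommRing k'] [CommRing B] [Algebra k' B] [Module.Projective k' B]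
    {P : Scheme.{u}} (q : P ⟶ Spec (CommRingCat.of k')) (j : Spec (CommRingCat.of B) ⟶ P) [IsOpenImmersion j]
    (hj : j ≫ q = Spec.map (CommRingCat.ofHom (algebraMap k' B))) :
    IsAffineOpen j.opensRange ∧ (letI := (j.opensRange.ι ≫ q).appTop.hom.toAlgebra
      Module.Projective Γ(Spec (CommRingCat.of k'), ⊤) Γ(↑j.opensRange, ⊤)) := by
  refine ⟨isAffineOpen_opensRange j, ClosedRep.projective_appTop (j.opensRange.ι ≫ q) j.isoOpensRange.symm ?_⟩
  rw [Iso.symm_hom, ← hj, ← Category.assoc]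
  congr 1
  rw [Iso.inv_comp_eq, Scheme.Hom.isoOpensRange_hom_ι]

/-- Over an integral base a morphism of finite type is essentially free over a nonempty open. -/
theorem exists_open_essFree {X S : Scheme.{u}} (g : X ⟶ S) [IsIntegral S] [LocallyOfFiniteType g]
    [QuasiCompact g] (U₁ : S.Opens) (hU₁ : (U₁ : Set S).Nonempty) :
    ∃ U : S.Opens, U ≤ U₁ ∧ (U : Set S).Nonempty ∧ SGA3x.IsEssentiallyFree (pullback.snd g U.ι) := by
  classical
  obtain ⟨u₁, hu₁⟩ := hU₁
  obtain ⟨V, hV, hηV, hVU⟩ := exists_isAffineOpen_mem_and_subset (U := U₁) (x := genericPoint S)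
    ((genericPoint_specializes u₁).mem_open U₁.2 hu₁)
  haveI : Nonempty V := ⟨⟨_, hηV⟩⟩
  haveI : IsDomain Γ(S, V) := IsIntegral.component_integral V
  let A := Γ(S, V)
  let XV := pullback g hV.fromSpec
  let qV : XV ⟶ Spec A := pullback.snd g hV.fromSpec
  haveI : CompactSpace XV := QuasiCompact.compactSpace_of_compactSpace qV
  let 𝒰 := XV.affineCover.finiteSubcover
  haveI : ∀ i, IsAffine (𝒰.X i) := fun i => inferInstanceAs (IsAffine (Spec _))
  have hpiece : ∀ i, ∃ f : A, f ≠ 0 ∧
      letI := ((𝒰.f i ≫ qV).appTop.hom.comp (Scheme.ΓSpecIso A).inv.hom).toAlgebra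
      Module.Free (Localization.Away f) (Localization.Away f ⊗[A] Γ(𝒰.X i, ⊤)) := by
    intro i
    letI := ((𝒰.f i ≫ qV).appTop.hom.comp (Scheme.ΓSpecIso A).inv.hom).toAlgebra
    haveI : Algebra.FiniteType A Γ(𝒰.X i, ⊤) := by
      haveI : LocallyOfFiniteType (𝒰.f i ≫ qV) := inferInstance
      have h := HasRingHomProperty.appTop (P := @LocallyOfFiniteType) (𝒰.f i ≫ qV) inferInstance
      exact RingHom.FiniteType.comp h (RingHom.FiniteType.of_surjective _
        (ConcreteCategory.bijective_of_isIso (Scheme.ΓSpecIso A).inv).2)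
    obtain ⟨f, hf, h, -⟩ := GenFree.generic_freeness (R := A) (S := Γ(𝒰.X i, ⊤)) (M := Γ(𝒰.X i, ⊤))
    exact ⟨f, hf, h⟩
  choose fi hfi hfree using hpiece
  haveI : Fintype 𝒰.I₀ := Fintype.ofFinite _
  let f : A := ∏ i, fi i
  have hf : f ≠ 0 := Finset.prod_ne_zero_iff.2 fun i _ => hfi i
  let R' := Localization.Away f
  let j : Spec (CommRingCat.of R') ⟶ Spec A := Spec.map (CommRingCat.ofHom (algebraMap A R'))
  haveI : IsOpenImmersion j := IsOpenImmersion.of_isLocalization f
  let jS := j ≫ hV.fromSpec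
  haveI : IsOpenImmersion jS := inferInstanceAs (IsOpenImmersion (j ≫ hV.fromSpec))
  let U := jS.opensRange
  haveI : Nontrivial R' := by
    refine Function.Injective.nontrivial (IsLocalization.injective R' (M := Submonoid.powers f) ?_)
    exact powers_le_nonZeroDivisors_of_noZeroDivisors hf
  refine ⟨U, ?_, ⟨jS (Classical.arbitrary _), ⟨_, rfl⟩⟩, fun s => ?_⟩
  · rintro _ ⟨t, rfl⟩
    exact hVU (hV.range_fromSpec.le ⟨j t, rfl⟩)
  haveI : IsAffine (U : Scheme.{u}) := isAffineOpen_opensRange jS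
  let g' : Spec (CommRingCat.of R') ⟶ ((⊤ : (U : Scheme.{u}).Opens) : Scheme.{u}) :=
    jS.isoOpensRange.hom ≫ (Scheme.topIso _).inv
  refine ⟨⊤, trivial, isAffineOpen_top _, Spec (CommRingCat.of R'), inferInstance, g', inferInstance, inferInstance,
    fun x => ?_⟩
  let g₁ := g' ≫ (⊤ : (U : Scheme.{u}).Opens).ι
  have hg₁ : g₁ ≫ U.ι = jS := by
    simp [g₁, g', U]
  let P := pullback (pullback.snd g U.ι) g₁
  -- the identification with the base change of the affine model
  have hP : IsPullback (pullback.fst (pullback.snd g U.ι) g₁ ≫ pullback.fst g U.ι) (pullback.snd _ g₁) g jS := by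
    rw [← hg₁]
    exact (IsPullback.of_hasPullback _ g₁).paste_horiz (IsPullback.of_hasPullback g U.ι)
  let φ : P ⟶ XV := pullback.lift (pullback.fst (pullback.snd g U.ι) g₁ ≫ pullback.fst g U.ι)
    (pullback.snd _ g₁ ≫ j) (by rw [hP.w, Category.assoc])
  have hφ : IsPullback φ (pullback.snd _ g₁) qV j := by
    refine IsPullback.of_right ?_ (pullback.lift_snd _ _ _) (IsPullback.of_hasPullback g hV.fromSpec)
    rw [pullback.lift_fst]
    exact hP
  obtain ⟨i, z, hz⟩ := 𝒰.exists_eq (φ x)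
  letI := ((𝒰.f i ≫ qV).appTop.hom.comp (Scheme.ΓSpecIso A).inv.hom).toAlgebra
  let B := Γ(𝒰.X i, ⊤)
  haveI hBfree : Module.Free R' (R' ⊗[A] B) :=
    GenFree.free_away_of_dvd (Finset.dvd_prod_of_mem fi (Finset.mem_univ i)) B (hfree i)
  let e := (𝒰.X i).isoSpec
  have he : e.hom ≫ Spec.map (CommRingCat.ofHom (algebraMap A B)) = 𝒰.f i ≫ qV := by
    have h := Scheme.isoSpec_hom_naturality (𝒰.f i ≫ qV)
    have h2 : CommRingCat.ofHom (algebraMap A B) = (Scheme.ΓSpecIso A).inv ≫ (𝒰.f i ≫ qV).appTop := rfl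
    rw [h2, Spec.map_comp, ← Category.assoc]
    rw [h, Category.assoc]
    show _ ≫ (Spec A).isoSpec.hom ≫ _ = _
    rw [Scheme.isoSpec_Spec_hom, ← Spec.map_comp, Iso.inv_hom_id, Spec.map_id]
    exact Category.comp_id _
  let T := Spec (CommRingCat.of (R' ⊗[A] B))
  let t : T ⟶ 𝒰.X i := Spec.map (CommRingCat.ofHom
    (Algebra.TensorProduct.includeRight (R := A) (A := R') (B := B)).toRingHom) ≫ e.inv
  have ht : IsPullback t (Spec.map (CommRingCat.ofHom (algebraMap R' (R' ⊗[A] B)))) (𝒰.f i ≫ qV) j := by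
    have h : IsPullback (Spec.map (CommRingCat.ofHom
        (Algebra.TensorProduct.includeRight (R := A) (A := R') (B := B)).toRingHom))
        (Spec.map (CommRingCat.ofHom (algebraMap R' (R' ⊗[A] B))))
        (Spec.map (CommRingCat.ofHom (algebraMap A B))) j :=
      (IsPullback.of_iso (IsPullback.of_hasPullback j (Spec.map (CommRingCat.ofHom (algebraMap A B))))
        (pullbackSpecIso A R' B) (Iso.refl _) (Iso.refl _) (Iso.refl _)
        (by rw [Iso.refl_hom, Category.comp_id]; exact (pullbackSpecIso_hom_fst A R' B).symm ▸ rfl)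
        (by rw [Iso.refl_hom, Category.comp_id]; exact (pullbackSpecIso_hom_snd A R' B).symm ▸ rfl)
        (by simp) (by simp)).flip
    refine IsPullback.of_iso h (Iso.refl _) e.symm (Iso.refl _) (Iso.refl _) ?_ (by simp) ?_ (by simp)
    · simp [t]
    · simp [← he]
  let ψ : T ⟶ P := hφ.lift (t ≫ 𝒰.f i) (Spec.map (CommRingCat.ofHom (algebraMap R' (R' ⊗[A] B))))
    (by rw [Category.assoc]; exact ht.w)
  have hψ : IsPullback t ψ (𝒰.f i) φ := by
    refine IsPullback.of_bot ?_ (hφ.lift_fst _ _ _).symm hφ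
    rw [hφ.lift_snd]
    exact ht
  haveI : IsOpenImmersion ψ := MorphismProperty.of_isPullback hψ inferInstance
  obtain ⟨hA, hpr⟩ := exists_piece (pullback.snd _ g₁) ψ (hφ.lift_snd _ _ _)
  refine ⟨ψ.opensRange, ?_, hA, hpr⟩
  obtain ⟨w, -, hw⟩ := Scheme.exists_preimage_of_isPullback hψ z x hz
  exact ⟨w, hw⟩

end Groth.Agent.GenTransp

end
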