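import Groth.Agent.GenTransp.Spread
import Groth.Agent.GenTransp.EssFree
import Groth.Agent.ClosedRep.EssFreeQC
import Groth.Agent.ClosedRep.EssFreeLFP
import Groth.Agent.LimMore.Compact
import Groth.Agent.GrpField.Kernel
import Groth.Agent.GrpField.QAAffine
import Groth.Agent.SubGen.SpreadBase
import Groth.Agent.LimDesc.FPCancel
import Groth.Prelude.Def_Red2

/-!
Transporters, centralisers and normalisers over a nonempty open of an integral base.
-/

set_option autoImplicit false
set_option linter.style.haveILetI false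
set_option backward.isDefEq.respectTransparency false

universe u

open CategoryTheory CategoryTheory.Limits MonoidalCategory CartesianMonoidalCategory MonObj GrpObj AlgebraicGeometry
open scoped CategoryTheory.Obj

noncomputable section

namespace Groth.Agent.GenTransp

open Groth.Agent.ConsEngine

theorem spreadsOut_isSeparated : SpreadsOut.{u} @IsSeparated := by
  intro I _ _ D _ c hc i₀ _ X₀ Y₀ f₀ g₀ _ _ _ _ _ _ X Y f g qY qX hY hX hf
  haveI := hf
  exact LimMore.exists_isSeparated D c hc f₀ g₀ hY hX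

variable {S : Scheme.{u}}

/-- The locus over which a family of maps lands in a closed subscheme, quasi-compact case. -/
theorem exists_preimage_qc {X T Y Z : Over S} (f : X ⊗ T ⟶ Y) (i : Z ⟶ Y) [IsClosedImmersion i.left]
    [LocallyOfFinitePresentation i.left] [QuasiCompact X.hom] (hX : SGA3x.IsEssentiallyFree X.hom) :
    ∃ (W : Over S) (j : W ⟶ T), IsClosedImmersion j.left ∧ LocallyOfFinitePresentation j.left ∧
      ∀ (T' : Over S) (x : T' ⟶ T), (∃ z, z ≫ j = x) ↔
        ∀ (T'' : Over S) (t : T'' ⟶ T') (a : T'' ⟶ X), ∃ b, lift a (t ≫ x) ≫ f = b ≫ i := by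
  let κ := Limits.pullback.fst f.left i.left
  obtain ⟨J, hJ⟩ := ClosedRep.exists_reps_zeroOn_essFree X.hom T.hom κ.ker hX
  have : LocallyOfFinitePresentation κ.ker.subschemeι := ClosedRep.lfp_ker_subschemeι κ
  refine ⟨Over.mk (J.subschemeι ≫ T.hom), Over.homMk J.subschemeι rfl,
    inferInstanceAs (IsClosedImmersion J.subschemeι),
    ClosedRep.lfp_of_reps_proj_qc X.hom T.hom κ.ker J hJ, fun T' x ↦ ?_⟩
  have h1 : (∃ z, z ≫ Over.homMk (U := Over.mk (J.subschemeι ≫ T.hom)) J.subschemeι rfl = x) ↔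
      ∃ z : T'.left ⟶ J.subscheme, z ≫ J.subschemeι = x.left := by
    constructor
    · rintro ⟨z, rfl⟩
      exact ⟨z.left, rfl⟩
    · rintro ⟨z, hz⟩
      refine ⟨Over.homMk z ?_, Over.OverMorphism.ext ((Over.comp_left _ _ _ _ _).trans hz)⟩
      change z ≫ J.subschemeι ≫ T.hom = T'.hom
      rw [reassoc_of% hz, Over.w]
  rw [h1, hJ.factors_iff, ClosedRep.Proj.zeroOn_iff X.hom T.hom κ.ker x.left T'.hom (Over.w x), ClosedRep.comap_eq_bot_iff]
  have h2 : (X ◁ x).left = ClosedRep.Proj.pm X.hom x.left (Over.w x) := by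
    apply pullback.hom_ext
    · rw [Over.whiskerLeft_left_fst, pullback.lift_fst]
    · rw [Over.whiskerLeft_left_snd, pullback.lift_snd]
  rw [← h2]
  constructor
  · intro le T'' t a
    obtain ⟨m, hm⟩ : ∃ m, m ≫ κ = (X ◁ x).left :=
      ⟨IsClosedImmersion.lift κ (X ◁ x).left le, IsClosedImmersion.lift_fac _ _ _⟩
    have hb : (lift a t ≫ X ◁ x ≫ f).left =
        (lift a t).left ≫ (m ≫ Limits.pullback.snd f.left i.left) ≫ i.left := by
      rw [Category.assoc, ← Limits.pullback.condition, ← Category.assoc m, hm, Over.comp_left,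
        Over.comp_left]
    refine ⟨Over.homMk ((lift a t).left ≫ m ≫ Limits.pullback.snd f.left i.left) ?_, ?_⟩
    · rw [← Over.w i, Category.assoc, ← Category.assoc (m ≫ _), ← Category.assoc, ← hb, Over.w]
    · ext1
      rw [← lift_whiskerLeft a t x, Category.assoc]
      exact hb.trans (by simp)
  · intro h
    obtain ⟨b, hb⟩ := h (X ⊗ T') (snd X T') (fst X T')
    rw [show lift (fst X T') (snd X T' ≫ x) = X ◁ x from by ext <;> simp] at hb
    have hb' : (X ◁ x).left ≫ f.left = b.left ≫ i.left := congr(($hb).left)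
    rw [← Limits.pullback.lift_fst (X ◁ x).left b.left hb']
    exact Scheme.Hom.le_ker_comp _ _

/-- The locus over which two families of maps to a separated scheme agree. -/
theorem exists_eq_locus {X T Y : Over S} (f g : X ⊗ T ⟶ Y) [IsSeparated Y.hom] [LocallyOfFiniteType Y.hom]
    [QuasiCompact X.hom] (hX : SGA3x.IsEssentiallyFree X.hom) :
    ∃ (W : Over S) (j : W ⟶ T), IsClosedImmersion j.left ∧ LocallyOfFinitePresentation j.left ∧
      ∀ (T' : Over S) (x : T' ⟶ T), (∃ z, z ≫ j = x) ↔
        ∀ (T'' : Over S) (t : T'' ⟶ T') (a : T'' ⟶ X), lift a (t ≫ x) ≫ f = lift a (t ≫ x) ≫ g := by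
  let Δ : Y ⟶ Y ⊗ Y := lift (𝟙 Y) (𝟙 Y)
  have h1 : Δ.left ≫ (fst Y Y).left = 𝟙 _ := by rw [← Over.comp_left, lift_fst]; rfl
  haveI : IsSeparated (fst Y Y).left := MorphismProperty.pullback_fst Y.hom Y.hom ‹_›
  haveI : LocallyOfFiniteType (fst Y Y).left := MorphismProperty.pullback_fst Y.hom Y.hom ‹_›
  haveI : IsClosedImmersion Δ.left := by
    haveI : IsClosedImmersion (Δ.left ≫ (fst Y Y).left) := by rw [h1]; infer_instance
    exact IsClosedImmersion.of_comp Δ.left (fst Y Y).left
  haveI : LocallyOfFinitePresentation Δ.left := by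
    haveI : LocallyOfFinitePresentation (Δ.left ≫ (fst Y Y).left) := by rw [h1]; infer_instance
    exact LimDesc.lfp_of_comp Δ.left (fst Y Y).left
  obtain ⟨W, j, hj, hj', hW⟩ := exists_preimage_qc (lift f g) Δ hX
  refine ⟨W, j, hj, hj', fun T' x => (hW T' x).trans (forall₃_congr fun T'' t a => ⟨?_, fun h => ?_⟩)⟩
  · rintro ⟨b, hb⟩
    have e1 := hb =≫ fst Y Y
    have e2 := hb =≫ snd Y Y
    simp only [Category.assoc, lift_fst, lift_snd, Δ, Category.comp_id] at e1 e2
    exact e1.trans e2.symm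
  · refine ⟨lift a (t ≫ x) ≫ f, ?_⟩
    apply CartesianMonoidalCategory.hom_ext <;> simp [Δ, h]

theorem finiteness {T W : Over S} (j : W ⟶ T) [IsClosedImmersion j.left] [LocallyOfFinitePresentation j.left]
    [LocallyOfFinitePresentation T.hom] [QuasiCompact T.hom] [QuasiSeparated T.hom] :
    LocallyOfFinitePresentation W.hom ∧ QuasiCompact W.hom ∧ QuasiSeparated W.hom := by
  rw [← Over.w j]
  exact ⟨inferInstance, inferInstance, inferInstance⟩

/-- Over a separated base group, with essentially free source, the transporter of two maps is closed. -/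
theorem exists_transporter_eq {G Y : Over S} [GrpObj G] [IsSeparated G.hom] [LocallyOfFinitePresentation G.hom]
    [QuasiCompact G.hom] [QuasiCompact Y.hom] (hY : SGA3x.IsEssentiallyFree Y.hom) (u v : Y ⟶ G) :
    ∃ (T : Over S) (t : T ⟶ G), IsClosedImmersion t.left ∧ LocallyOfFinitePresentation T.hom ∧ QuasiCompact T.hom ∧
      QuasiSeparated T.hom ∧ ∀ (S' : Over S) (g : S' ⟶ G), (∃ z : S' ⟶ T, z ≫ t = g) ↔
        ∀ (S'' : Over S) (s : S'' ⟶ S') (y : S'' ⟶ Y), (s ≫ g) * (y ≫ u) * (s ≫ g)⁻¹ = y ≫ v := by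
  obtain ⟨T, t, ht, ht', hT⟩ := exists_eq_locus (snd Y G * (fst Y G ≫ u) * (snd Y G)⁻¹) (fst Y G ≫ v) hY
  obtain ⟨h1, h2, h3⟩ := finiteness t
  refine ⟨T, t, ht, h1, h2, h3, fun S' g => (hT S' g).trans (forall₃_congr fun S'' s y => ?_)⟩
  simp only [MonObj.comp_mul, GrpObj.comp_inv, lift_fst_assoc, lift_snd]

/-- The centraliser of an essentially free subgroup. -/
theorem exists_centralizer {G H : Over S} [GrpObj G] [IsSeparated G.hom] [LocallyOfFinitePresentation G.hom]
    [QuasiCompact G.hom] [QuasiCompact H.hom] (hH : SGA3x.IsEssentiallyFree H.hom) (i : H ⟶ G) :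
    ∃ (C : Over S) (_ : GrpObj C) (c : C ⟶ G), Red.IsCentralizerOf i c ∧ IsClosedImmersion c.left ∧
      LocallyOfFinitePresentation C.hom ∧ QuasiCompact C.hom := by
  obtain ⟨C, c, hc, hc', hC⟩ := exists_eq_locus (snd H G * (fst H G ≫ i)) ((fst H G ≫ i) * snd H G) hH
  have hC' : ∀ (X : Over S) (g : X ⟶ G), (∃ z, z ≫ c = g) ↔
      ∀ (X' : Over S) (x : X' ⟶ X) (h : X' ⟶ H), (x ≫ g) * (h ≫ i) = (h ≫ i) * (x ≫ g) := fun X g =>
    (hC X g).trans (forall₃_congr fun X' x h => by simp only [MonObj.comp_mul, lift_fst_assoc, lift_snd])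
  haveI : Mono c.left := inferInstance
  haveI : Mono c := Over.mono_of_mono_left c
  have hcomm := fun (X : Over S) (z : X ⟶ C) (X' : Over S) (x : X' ⟶ X) (h : X' ⟶ H) =>
    (hC' X (z ≫ c)).1 ⟨z, rfl⟩ X' x h
  obtain ⟨hg, hcm⟩ := SubGen.Spread.exists_grpObj_of_div c ((hC' _ η[G]).2 fun X' x h => by
      rw [show x ≫ η[G] = (1 : X' ⟶ G) from by rw [toUnit_unique x (toUnit X')]; rfl, _root_.one_mul, _root_.mul_one])
    ((hC' _ _).2 fun X' x h => by
      have a := hcomm _ (fst C C) X' x h
      have b := hcomm _ (snd C C) X' x h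
      rw [MonObj.comp_mul, GrpObj.comp_inv]
      generalize x ≫ fst C C ≫ c = p at a ⊢
      generalize x ≫ snd C C ≫ c = q at b ⊢
      have a' : p⁻¹ * (h ≫ i) = (h ≫ i) * p⁻¹ := by
        rw [inv_mul_eq_iff_eq_mul, ← _root_.mul_assoc, a, _root_.mul_assoc, mul_inv_cancel, _root_.mul_one]
      rw [_root_.mul_assoc, b, ← _root_.mul_assoc, a', _root_.mul_assoc])
  obtain ⟨h1, h2, -⟩ := finiteness c
  exact ⟨C, hg, c, ⟨hcm, inferInstance, hC'⟩, hc, h1, h2⟩

/-- The normaliser of an essentially free closed subgroup. -/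
theorem exists_normalizer {G H : Over S} [GrpObj G] [IsSeparated G.hom] [LocallyOfFinitePresentation G.hom]
    [QuasiCompact G.hom] [QuasiCompact H.hom] (hH : SGA3x.IsEssentiallyFree H.hom) (i : H ⟶ G)
    [IsClosedImmersion i.left] [LocallyOfFinitePresentation H.hom] :
    ∃ (N : Over S) (_ : GrpObj N) (n : N ⟶ G), Red.IsNormalizerOf i n ∧ IsClosedImmersion n.left ∧
      LocallyOfFinitePresentation N.hom ∧ QuasiCompact N.hom := by
  haveI : LocallyOfFinitePresentation i.left := by
    haveI : LocallyOfFinitePresentation (i.left ≫ G.hom) := by rw [Over.w]; infer_instance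
    exact LimDesc.lfp_of_comp i.left G.hom
  obtain ⟨T, j, hj, hj', hT⟩ := exists_preimage_qc (snd H G * (fst H G ≫ i) * (snd H G)⁻¹) i hH
  obtain ⟨N, k, hk, hk', hN⟩ := exists_preimage_qc ((H ◁ j) ≫ ((snd H G)⁻¹ * (fst H G ≫ i) * snd H G)) i hH
  let n := k ≫ j
  haveI : IsClosedImmersion n.left := by rw [Over.comp_left]; infer_instance
  haveI : LocallyOfFinitePresentation n.left := by rw [Over.comp_left]; infer_instance
  have hN' : ∀ (X : Over S) (g : X ⟶ G), (∃ z, z ≫ n = g) ↔
      ∀ (X' : Over S) (x : X' ⟶ X) (h : X' ⟶ H),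
        (∃ h' : X' ⟶ H, (x ≫ g) * (h ≫ i) * (x ≫ g)⁻¹ = h' ≫ i) ∧
        (∃ h' : X' ⟶ H, (x ≫ g)⁻¹ * (h ≫ i) * (x ≫ g) = h' ≫ i) := by
    intro X g
    constructor
    · rintro ⟨z, rfl⟩ X' x h
      obtain ⟨b, hb⟩ := (hT X ((z ≫ k) ≫ j)).1 ⟨_, rfl⟩ X' x h
      obtain ⟨b', hb'⟩ := (hN X (z ≫ k)).1 ⟨_, rfl⟩ X' x h
      rw [lift_whiskerLeft_assoc] at hb'
      simp only [MonObj.comp_mul, GrpObj.comp_inv, lift_fst_assoc, lift_snd, Category.assoc] at hb hb'
      exact ⟨⟨b, by simpa [n] using hb⟩, ⟨b', by simpa [n] using hb'⟩⟩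
    · intro h
      obtain ⟨y, rfl⟩ := (hT X g).2 fun X' x a => by
        simp only [MonObj.comp_mul, GrpObj.comp_inv, lift_fst_assoc, lift_snd]
        exact (h X' x a).1
      obtain ⟨z, rfl⟩ := (hN X y).2 fun X' x a => by
        rw [lift_whiskerLeft_assoc]
        simp only [MonObj.comp_mul, GrpObj.comp_inv, lift_fst_assoc, lift_snd, Category.assoc]
        exact (h X' x a).2
      exact ⟨z, (Category.assoc _ _ _).symm⟩
  haveI : Mono n.left := inferInstance
  haveI : Mono n := Over.mono_of_mono_left n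
  have hnorm := fun (X : Over S) (z : X ⟶ N) (X' : Over S) (x : X' ⟶ X) (h : X' ⟶ H) =>
    (hN' X (z ≫ n)).1 ⟨z, rfl⟩ X' x h
  obtain ⟨hg, hnm⟩ := SubGen.Spread.exists_grpObj_of_div n ((hN' _ η[G]).2 fun X' x h => by
      rw [show x ≫ η[G] = (1 : X' ⟶ G) from by rw [toUnit_unique x (toUnit X')]; rfl]
      exact ⟨⟨h, by simp⟩, ⟨h, by simp⟩⟩)
    ((hN' _ _).2 fun X' x h => by
      rw [MonObj.comp_mul, GrpObj.comp_inv]
      constructor
      · obtain ⟨a, ha⟩ := (hnorm _ (snd N N) X' x h).1
        obtain ⟨b, hb⟩ := (hnorm _ (fst N N) X' x a).2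
        refine ⟨b, ?_⟩
        rw [← hb, ← ha]
        group
      · obtain ⟨a, ha⟩ := (hnorm _ (fst N N) X' x h).1
        obtain ⟨b, hb⟩ := (hnorm _ (snd N N) X' x a).2
        refine ⟨b, ?_⟩
        rw [← hb, ← ha]
        group)
  obtain ⟨h1, h2, -⟩ := finiteness n
  exact ⟨N, hg, n, ⟨hnm, inferInstance, hN'⟩, inferInstance, h1, h2⟩

section integral

variable [IsIntegral S]

/-- A group of finite presentation is separated over a nonempty open. -/
theorem exists_open_separated (G : Over S) [GrpObj G] [LocallyOfFinitePresentation G.hom] [QuasiCompact G.hom]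
    [QuasiSeparated G.hom] :
    ∃ U : S.Opens, (U : Set S).Nonempty ∧ ∀ V : S.Opens, V ≤ U → IsSeparated (pullback.snd G.hom V.ι) := by
  haveI : LocallyOfFinitePresentation (G.hom ≫ 𝟙 S) := by rw [Category.comp_id]; infer_instance
  haveI : QuasiCompact (G.hom ≫ 𝟙 S) := by rw [Category.comp_id]; infer_instance
  haveI : QuasiSeparated (G.hom ≫ 𝟙 S) := by rw [Category.comp_id]; infer_instance
  have tr : ∀ {T : Scheme.{u}} (y : T ⟶ S),
      IsSeparated (pullback.snd G.hom (pullback.fst (𝟙 S) y)) ↔ IsSeparated (pullback.snd G.hom y) := by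
    intro T y
    have e : pullback.fst (𝟙 S) y = pullback.snd (𝟙 S) y ≫ y := by
      rw [← pullback.condition, Category.comp_id]
    haveI : IsIso (pullback.snd (𝟙 S) y) := inferInstance
    have sq1 := IsPullback.of_hasPullback G.hom (pullback.fst (𝟙 S) y)
    have sq2 := IsPullback.of_hasPullback G.hom y
    let m : pullback G.hom (pullback.fst (𝟙 S) y) ⟶ pullback G.hom y :=
      pullback.lift (pullback.fst _ _) (pullback.snd _ _ ≫ pullback.snd (𝟙 S) y)
        (by rw [Category.assoc, ← e]; exact pullback.condition)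
    have hm : IsPullback m (pullback.snd G.hom (pullback.fst (𝟙 S) y)) (pullback.snd G.hom y) (pullback.snd (𝟙 S) y) := by
      refine IsPullback.of_right ?_ (pullback.lift_snd _ _ _) sq2
      rw [pullback.lift_fst, ← e]
      exact sq1
    haveI : IsIso m := MorphismProperty.of_isPullback (P := MorphismProperty.isomorphisms _) hm.flip
      (inferInstanceAs (IsIso (pullback.snd (𝟙 S) y)))
    rw [← MorphismProperty.cancel_right_of_respectsIso (P := @IsSeparated) _ (pullback.snd (𝟙 S) y), ← hm.w,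
      MorphismProperty.cancel_left_of_respectsIso (P := @IsSeparated)]
  obtain ⟨U, hU, h⟩ := exists_open_of_generic @IsSeparated spreadsOut_isSeparated G.hom (𝟙 S) fun L _ y _ => by
    rw [tr]
    haveI : LocallyOfFiniteType ((Over.pullback y).obj G).hom :=
      inferInstanceAs (LocallyOfFiniteType (pullback.snd G.hom y))
    exact GrpField.isSeparated_hom ((Over.pullback y).obj G)
  exact ⟨U, hU, fun V hV => SubGen.Spread.snd_of_le (P := @IsSeparated) G.hom hV ((tr _).1 h)⟩

theorem nonempty_inf {U V : S.Opens} (hU : (U : Set S).Nonempty) (hV : (V : Set S).Nonempty) :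
    ((U ⊓ V : S.Opens) : Set S).Nonempty :=
  ⟨genericPoint S, (genericPoint_specializes hU.some).mem_open U.2 hU.some_mem,
    (genericPoint_specializes hV.some).mem_open V.2 hV.some_mem⟩

set_option maxHeartbeats 1600000 in
set_option synthInstance.maxHeartbeats 400000 in
theorem main_transporter (G Y : Over S) [GrpObj G]
    [LocallyOfFinitePresentation G.hom] [QuasiCompact G.hom] [QuasiSeparated G.hom]
    [LocallyOfFinitePresentation Y.hom] [QuasiCompact Y.hom] [QuasiSeparated Y.hom] (u v : Y ⟶ G) :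
    ∃ U : S.Opens, (U : Set S).Nonempty ∧
      ∃ (T : Over (U : Scheme.{u})) (t : T ⟶ Red.bc U.ι G), IsClosedImmersion t.left ∧
        LocallyOfFinitePresentation T.hom ∧ QuasiCompact T.hom ∧ QuasiSeparated T.hom ∧
        ∀ (S' : Over (U : Scheme.{u})) (g : S' ⟶ Red.bc U.ι G), (∃ z : S' ⟶ T, z ≫ t = g) ↔
          ∀ (S'' : Over (U : Scheme.{u})) (s : S'' ⟶ S') (y : S'' ⟶ Red.bc U.ι Y),
            (s ≫ g) * (y ≫ (Over.pullback U.ι).map u) * (s ≫ g)⁻¹ = y ≫ (Over.pullback U.ι).map v := by
  obtain ⟨U₁, hU₁, hsep⟩ := exists_open_separated G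
  obtain ⟨U, hle, hU, hfree⟩ := exists_open_essFree Y.hom U₁ hU₁
  haveI : IsSeparated (Red.bc U.ι G).hom := hsep U hle
  haveI : LocallyOfFinitePresentation (Red.bc U.ι G).hom := inferInstanceAs (LocallyOfFinitePresentation (pullback.snd G.hom U.ι))
  haveI : QuasiCompact (Red.bc U.ι G).hom := inferInstanceAs (QuasiCompact (pullback.snd G.hom U.ι))
  haveI : QuasiCompact (Red.bc U.ι Y).hom := inferInstanceAs (QuasiCompact (pullback.snd Y.hom U.ι))
  exact ⟨U, hU, exists_transporter_eq (Y := Red.bc U.ι Y) hfree _ _⟩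

/-- A monomorphism of groups of finite presentation is a closed immersion over a nonempty open. -/
theorem exists_open_closedImmersion {G H : Over S} [GrpObj G] [GrpObj H] [LocallyOfFinitePresentation G.hom]
    [QuasiCompact G.hom] [QuasiSeparated G.hom] [LocallyOfFinitePresentation H.hom] [QuasiCompact H.hom]
    [QuasiSeparated H.hom] (i : H ⟶ G) [IsMonHom i] [Mono i] :
    ∃ U : S.Opens, (U : Set S).Nonempty ∧ ∀ V : S.Opens, V ≤ U → IsClosedImmersion ((Over.pullback V.ι).map i).left := by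
  haveI : LocallyOfFinitePresentation (i.left ≫ G.hom) := by rw [Over.w]; infer_instance
  haveI : QuasiCompact (i.left ≫ G.hom) := by rw [Over.w]; infer_instance
  haveI : QuasiSeparated (i.left ≫ G.hom) := by rw [Over.w]; infer_instance
  have tr : ∀ {T : Scheme.{u}} (y : T ⟶ S),
      IsClosedImmersion (pullback.snd i.left (pullback.fst G.hom y)) ↔
        IsClosedImmersion ((Over.pullback y).map i).left := by
    intro T y
    have sq := SubGen.Spread.isPullback_map y i
    rw [← sq.isoPullback_inv_snd]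
    exact MorphismProperty.cancel_left_of_respectsIso (P := @IsClosedImmersion) sq.isoPullback.inv _
  obtain ⟨U, hU, h⟩ := exists_open_of_generic @IsClosedImmersion spreadsOut_isClosedImmersion i.left G.hom
    fun L _ y _ => by
      rw [tr]
      haveI : LocallyOfFiniteType ((Over.pullback y).obj G).hom :=
        inferInstanceAs (LocallyOfFiniteType (pullback.snd G.hom y))
      haveI : LocallyOfFiniteType ((Over.pullback y).obj H).hom :=
        inferInstanceAs (LocallyOfFiniteType (pullback.snd H.hom y))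
      haveI : QuasiCompact ((Over.pullback y).obj H).hom :=
        inferInstanceAs (QuasiCompact (pullback.snd H.hom y))
      haveI : Mono ((Over.pullback y).map i) := inferInstance
      haveI : QuasiSeparated ((Over.pullback y).obj G).hom :=
        inferInstanceAs (QuasiSeparated (pullback.snd G.hom y))
      haveI : QuasiCompact (((Over.pullback y).map i).left ≫ ((Over.pullback y).obj G).hom) := by
        rw [Over.w]; infer_instance
      haveI : QuasiCompact ((Over.pullback y).map i).left :=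
        QuasiCompact.of_comp _ ((Over.pullback y).obj G).hom
      exact GrpField.isClosedImmersion_of_mono ((Over.pullback y).map i)
  refine ⟨U, hU, fun V hV => (tr _).1 ?_⟩
  let m : pullback G.hom V.ι ⟶ pullback G.hom U.ι :=
    pullback.map G.hom V.ι G.hom U.ι (𝟙 _) (S.homOfLE hV) (𝟙 _) (by simp) (by simp)
  have hm : m ≫ pullback.fst G.hom U.ι = pullback.fst G.hom V.ι := by
    simp only [m, pullback.lift_fst, Category.comp_id]
  let l : pullback i.left (pullback.fst G.hom V.ι) ⟶ pullback i.left (pullback.fst G.hom U.ι) :=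
    pullback.lift (pullback.fst _ _) (pullback.snd _ _ ≫ m) (by rw [Category.assoc, hm]; exact pullback.condition)
  have sq : IsPullback l (pullback.snd i.left (pullback.fst G.hom V.ι))
      (pullback.snd i.left (pullback.fst G.hom U.ι)) m := by
    refine IsPullback.of_right ?_ (pullback.lift_snd _ _ _) (IsPullback.of_hasPullback i.left (pullback.fst G.hom U.ι))
    rw [pullback.lift_fst, hm]
    exact IsPullback.of_hasPullback _ _
  exact MorphismProperty.of_isPullback (P := @IsClosedImmersion) sq h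

set_option maxHeartbeats 1600000 in
set_option synthInstance.maxHeartbeats 400000 in
theorem main_normalizer (G H : Over S) [GrpObj G] [GrpObj H]
    [LocallyOfFinitePresentation G.hom] [QuasiCompact G.hom] [QuasiSeparated G.hom]
    [LocallyOfFinitePresentation H.hom] [QuasiCompact H.hom] [QuasiSeparated H.hom]
    (i : H ⟶ G) [IsMonHom i] [Mono i] :
    ∃ U : S.Opens, (U : Set S).Nonempty ∧ IsClosedImmersion ((Over.pullback U.ι).map i).left ∧
      ∃ (C N : Over (U : Scheme.{u})) (_ : GrpObj C) (_ : GrpObj N) (c : C ⟶ Red.bc U.ι G) (n : N ⟶ Red.bc U.ι G),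
        Red.IsCentralizerOf ((Over.pullback U.ι).map i) c ∧ IsClosedImmersion c.left ∧
          LocallyOfFinitePresentation C.hom ∧ QuasiCompact C.hom ∧
        Red.IsNormalizerOf ((Over.pullback U.ι).map i) n ∧ IsClosedImmersion n.left ∧
          LocallyOfFinitePresentation N.hom ∧ QuasiCompact N.hom := by
  obtain ⟨U₁, hU₁, hsep⟩ := exists_open_separated G
  obtain ⟨U₂, hU₂, hcl⟩ := exists_open_closedImmersion i
  obtain ⟨U, hle, hU, hfree⟩ := exists_open_essFree H.hom (U₁ ⊓ U₂) (nonempty_inf hU₁ hU₂)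
  haveI : IsSeparated (Red.bc U.ι G).hom := hsep U (hle.trans inf_le_left)
  haveI : LocallyOfFinitePresentation (Red.bc U.ι G).hom := inferInstanceAs (LocallyOfFinitePresentation (pullback.snd G.hom U.ι))
  haveI : QuasiCompact (Red.bc U.ι G).hom := inferInstanceAs (QuasiCompact (pullback.snd G.hom U.ι))
  haveI : QuasiCompact (Red.bc U.ι H).hom := inferInstanceAs (QuasiCompact (pullback.snd H.hom U.ι))
  haveI : LocallyOfFinitePresentation (Red.bc U.ι H).hom := inferInstanceAs (LocallyOfFinitePresentation (pullback.snd H.hom U.ι))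
  haveI hci := hcl U (hle.trans inf_le_right)
  obtain ⟨C, hC, c, c1, c2, c3, c4⟩ := exists_centralizer (H := Red.bc U.ι H) hfree ((Over.pullback U.ι).map i)
  obtain ⟨N, hN, n, n1, n2, n3, n4⟩ := exists_normalizer (H := Red.bc U.ι H) hfree ((Over.pullback U.ι).map i)
  exact ⟨U, hU, hci, C, N, hC, hN, c, n, c1, c2, c3, c4, n1, n2, n3, n4⟩

end integral

end Groth.Agent.GenTransp

end
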