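import Groth.Agent.ConsEngine.Finite
import Groth.Agent.ConsEngine.Immersion
import Groth.Agent.GenFree.Main
import Groth.Prelude.Def_SGA3x

/-!
Spreading out from the generic point of an integral scheme, and generic essential freeness.
-/

set_option autoImplicit false
set_option linter.style.haveILetI false
set_option backward.isDefEq.respectTransparency false

universe u

open CategoryTheory CategoryTheory.Limits AlgebraicGeometry
open Groth.Agent.ConsEngine
open TensorProduct

noncomputable section

namespace Groth.Agent.GenTransp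

theorem spreadsOut_isClosedImmersion : SpreadsOut.{u} @IsClosedImmersion := by
  intro I _ _ D _ c hc i₀ _ X₀ Y₀ f₀ g₀ _ _ _ _ _ _ X Y f g qY qX hY hX hf
  haveI := hf
  obtain ⟨i, φ, Xi, Yi, fi, gi, pY, pX, h1, h2, h3⟩ := LimDesc.exists_isClosedImmersion D c hc f₀ g₀ hY hX
  exact ⟨Over.mk φ, stageMap_of_data @IsClosedImmersion h1 h2 h3⟩

/-- A property that spreads out and holds over the generic point holds over a nonempty open. -/
theorem exists_open_of_generic (R : MorphismProperty Scheme.{u}) [R.IsStableUnderBaseChange] (hS : SpreadsOut R)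
    {X Y S : Scheme.{u}} (f : X ⟶ Y) (g : Y ⟶ S) [IsIntegral S]
    [LocallyOfFinitePresentation g] [QuasiCompact g] [QuasiSeparated g]
    [LocallyOfFinitePresentation (f ≫ g)] [QuasiCompact (f ≫ g)] [QuasiSeparated (f ≫ g)]
    (hη : ∀ (L : Type u) [Field L] (y : Spec (CommRingCat.of L) ⟶ S), (∀ z, y z = genericPoint S) →
      R (pullback.snd f (pullback.fst g y))) :
    ∃ U : S.Opens, (U : Set S).Nonempty ∧ R (pullback.snd f (pullback.fst g U.ι)) := by
  classical
  obtain ⟨V, hV, hηV, -⟩ := exists_isAffineOpen_mem_and_subset (U := (⊤ : S.Opens)) (x := genericPoint S) trivial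
  haveI : Nonempty V := ⟨⟨_, hηV⟩⟩
  haveI : IsDomain Γ(S, V) := IsIntegral.component_integral V
  let A := Γ(S, V)
  let K := FractionRing A
  haveI : IsCofiltered (FgOver A K)ᵒᵖ := isCofiltered_op_of_isFiltered _
  let D := fgOverDiagram A K
  let c := fgOverCone A K
  let i₀ : (FgOver A K)ᵒᵖ := Opposite.op ⟨⊥, Subalgebra.fg_bot⟩
  let m : ∀ j : (FgOver A K)ᵒᵖ, D.obj j ⟶ S :=
    fun j => Spec.map (CommRingCat.ofHom (algebraMap A j.unop.1)) ≫ hV.fromSpec
  have hm : ∀ (j k : (FgOver A K)ᵒᵖ) (e : j ⟶ k), D.map e ≫ m k = m j := fun j k e => by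
    show Spec.map _ ≫ Spec.map _ ≫ hV.fromSpec = Spec.map _ ≫ hV.fromSpec
    rw [← Spec.map_comp_assoc]
    rfl
  haveI : IsAffine (D.obj i₀) := inferInstanceAs (IsAffine (Spec _))
  have h0Y : IsPullback (pullback.fst g (m i₀)) (pullback.snd g (m i₀)) g (m i₀) := .of_hasPullback _ _
  have h0X : IsPullback (pullback.fst f (pullback.fst g (m i₀))) (pullback.snd f (pullback.fst g (m i₀))) f
      (pullback.fst g (m i₀)) := .of_hasPullback _ _
  let g₀ := pullback.snd g (m i₀)
  let f₀ := pullback.snd f (pullback.fst g (m i₀))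
  haveI : LocallyOfFinitePresentation g₀ :=
    MorphismProperty.of_isPullback (P := @LocallyOfFinitePresentation) h0Y ‹_›
  haveI : QuasiCompact g₀ := MorphismProperty.of_isPullback (P := @QuasiCompact) h0Y ‹_›
  haveI : QuasiSeparated g₀ := MorphismProperty.of_isPullback (P := @QuasiSeparated) h0Y ‹_›
  haveI : LocallyOfFinitePresentation (f₀ ≫ g₀) :=
    MorphismProperty.of_isPullback (P := @LocallyOfFinitePresentation) (h0X.paste_vert h0Y) ‹_›
  haveI : QuasiCompact (f₀ ≫ g₀) := MorphismProperty.of_isPullback (P := @QuasiCompact) (h0X.paste_vert h0Y) ‹_›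
  haveI : QuasiSeparated (f₀ ≫ g₀) :=
    MorphismProperty.of_isPullback (P := @QuasiSeparated) (h0X.paste_vert h0Y) ‹_›
  let y : Spec (CommRingCat.of K) ⟶ S := c.π.app i₀ ≫ m i₀
  have hy : y = Spec.map (CommRingCat.ofHom (algebraMap A K)) ≫ hV.fromSpec := by
    show Spec.map _ ≫ Spec.map _ ≫ hV.fromSpec = Spec.map _ ≫ hV.fromSpec
    rw [← Spec.map_comp_assoc]
    rfl
  have hbot : ∀ t, y t = genericPoint S := fun t => by
    rw [hy]
    show hV.fromSpec (Spec.map (CommRingCat.ofHom (algebraMap A K)) t) = genericPoint S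
    obtain ⟨q, hq⟩ : genericPoint S ∈ Set.range hV.fromSpec := by rw [hV.range_fromSpec]; exact hηV
    refine (Specializes.antisymm ((genericPoint_spec S).specializes trivial) ?_).eq.symm
    rw [← hq]
    refine Specializes.map ?_ hV.fromSpec.continuous
    refine (PrimeSpectrum.le_iff_specializes (R := A) _ q).mp ?_
    have h0 : ∀ p : PrimeSpectrum K, p.asIdeal.comap (algebraMap A K) ≤ q.asIdeal := fun p a ha => by
      rcases Ideal.eq_bot_or_top p.asIdeal with h | h
      · rw [Ideal.mem_comap, h, Ideal.mem_bot, IsFractionRing.to_map_eq_zero_iff] at ha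
        rw [ha]
        exact zero_mem _
      · exact absurd h p.2.ne_top
    exact h0 t
  -- the generic square
  have hKY : IsPullback (pullback.lift (pullback.fst g y) (pullback.snd g y ≫ c.π.app i₀)
      (by rw [Category.assoc]; exact pullback.condition)) (pullback.snd g y) g₀ (c.π.app i₀) := by
    refine IsPullback.of_right ?_ (pullback.lift_snd _ _ _) h0Y
    rw [pullback.lift_fst]
    exact IsPullback.of_hasPullback g y
  have hKX : IsPullback (pullback.lift (pullback.fst f (pullback.fst g y))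
      (pullback.snd f (pullback.fst g y) ≫ pullback.lift (pullback.fst g y) (pullback.snd g y ≫ c.π.app i₀)
        (by rw [Category.assoc]; exact pullback.condition))
      (by rw [Category.assoc, pullback.lift_fst]; exact pullback.condition))
      (pullback.snd f (pullback.fst g y)) f₀ (pullback.lift (pullback.fst g y) (pullback.snd g y ≫ c.π.app i₀)
        (by rw [Category.assoc]; exact pullback.condition)) := by
    refine IsPullback.of_right ?_ (pullback.lift_snd _ _ _) h0X
    rw [pullback.lift_fst, pullback.lift_fst]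
    exact IsPullback.of_hasPullback f _
  obtain ⟨j, hj⟩ := hS D c (fgOverIsLimit A K) f₀ g₀ _ _ _ _ hKY hKX (hη K y hbot)
  obtain ⟨T, hT⟩ := j.left.unop.2
  obtain ⟨⟨d, hd⟩, hint⟩ := IsLocalization.exist_integer_multiples_of_finset (nonZeroDivisors A) T
  have hd0 : algebraMap A K d ≠ 0 := by
    simpa using (IsFractionRing.to_map_eq_zero_iff (K := K)).not.mpr (nonZeroDivisors.ne_zero hd)
  let B' : FgOver A K := ⟨Algebra.adjoin A {(algebraMap A K d)⁻¹}, by
    simpa using Subalgebra.fg_adjoin_finset (R := A) ({(algebraMap A K d)⁻¹} : Finset K)⟩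
  have hle : j.left.unop.1 ≤ B'.1 := by
    rw [← hT]
    refine Algebra.adjoin_le fun x hx => ?_
    obtain ⟨a, ha⟩ := hint x hx
    have : x = algebraMap A K a * (algebraMap A K d)⁻¹ := by
      rw [eq_mul_inv_iff_mul_eq₀ hd0, ha, Algebra.smul_def, mul_comm]
    rw [this]
    exact mul_mem (Subalgebra.algebraMap_mem _ _) (Algebra.subset_adjoin rfl)
  haveI : IsLocalization.Away d B'.1 := by
    have hu : IsUnit (algebraMap A B'.1 d) :=
      IsUnit.of_mul_eq_one ⟨(algebraMap A K d)⁻¹, Algebra.subset_adjoin rfl⟩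
        (Subtype.ext (mul_inv_cancel₀ hd0))
    refine IsLocalization.Away.mk d hu (fun z => ?_) (fun a b hab => ⟨0, ?_⟩)
    · obtain ⟨p, hp⟩ : ∃ p : Polynomial A, Polynomial.aeval ((algebraMap A K d)⁻¹) p = z.1 := by
        have h2 : z.1 ∈ Algebra.adjoin A {(algebraMap A K d)⁻¹} := z.2
        rw [Algebra.adjoin_singleton_eq_range_aeval] at h2
        exact h2
      refine ⟨p.natDegree, (p.reverse).eval d, Subtype.ext ?_⟩
      show z.1 * algebraMap A K d ^ p.natDegree = algebraMap A K ((p.reverse).eval d)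
      rw [← hp, ← Polynomial.eval₂_id, Polynomial.hom_eval₂, RingHom.comp_id]
      haveI : Invertible ((algebraMap A K d)⁻¹) := invertibleOfNonzero (inv_ne_zero hd0)
      have h1 := Polynomial.eval₂_reverse_mul_pow (algebraMap A K) ((algebraMap A K d)⁻¹) p
      rw [invOf_eq_inv, inv_inv] at h1
      rw [Polynomial.aeval_def, ← h1, mul_assoc, ← mul_pow, inv_mul_cancel₀ hd0, one_pow, mul_one]
    · simpa using IsFractionRing.injective A K (congrArg Subtype.val hab)
  let e₁ : Opposite.op B' ⟶ j.left := (homOfLE (show j.left.unop ≤ B' from hle)).op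
  let k : Over i₀ := Over.mk (e₁ ≫ j.hom)
  let a : k ⟶ j := Over.homMk e₁
  have hk : R (LimDesc.stageMap D g₀ f₀ k) := R.of_isPullback (LimDesc.isPullback_trans_stageMap D g₀ f₀ a) hj
  haveI : IsOpenImmersion (Spec.map (CommRingCat.ofHom (algebraMap A B'.1))) :=
    IsOpenImmersion.of_isLocalization d
  haveI : IsOpenImmersion (m k.left) := inferInstanceAs (IsOpenImmersion (Spec.map (CommRingCat.ofHom (algebraMap A B'.1)) ≫ hV.fromSpec))
  let U := (m k.left).opensRange
  refine ⟨U, ⟨m k.left (c.π.app k.left (IsLocalRing.closedPoint K)), ⟨_, rfl⟩⟩, ?_⟩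
  have hYk := (LimDesc.isPullback_stage D g₀ k).paste_horiz h0Y
  have hXk := (LimDesc.isPullback_stageMap D g₀ f₀ k).paste_horiz h0X
  rw [hm] at hYk
  let e : (U : Scheme.{u}) ≅ D.obj k.left := (m k.left).isoOpensRange.symm
  have he : e.hom ≫ m k.left = U.ι := by
    rw [Iso.symm_hom, Iso.inv_comp_eq, Scheme.Hom.isoOpensRange_hom_ι]
  let φ : pullback g U.ι ⟶ LimDesc.stage D g₀ k :=
    hYk.lift (pullback.fst g U.ι) (pullback.snd g U.ι ≫ e.hom) (by rw [Category.assoc, he]; exact pullback.condition)
  have hsq : IsPullback φ (pullback.snd g U.ι) (LimDesc.toStage D g₀ k) e.hom := by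
    refine IsPullback.of_right ?_ (hYk.lift_snd _ _ _) hYk
    rw [hYk.lift_fst, he]
    exact IsPullback.of_hasPullback g U.ι
  let ψ : pullback f (pullback.fst g U.ι) ⟶ _ := hXk.lift (pullback.fst f (pullback.fst g U.ι))
      (pullback.snd f (pullback.fst g U.ι) ≫ φ) (by rw [Category.assoc, hYk.lift_fst]; exact pullback.condition)
  have hsq2 : IsPullback ψ (pullback.snd f (pullback.fst g U.ι)) (LimDesc.stageMap D g₀ f₀ k) φ := by
    refine IsPullback.of_right ?_ (hXk.lift_snd _ _ _) hXk
    rw [hXk.lift_fst, hYk.lift_fst]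
    exact IsPullback.of_hasPullback f _
  exact R.of_isPullback hsq2 hk

end Groth.Agent.GenTransp

end
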